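import Mathlib
import Groth.Prelude.Def_Cyc
import Groth.Agent.CycDivLib.Ord
import Groth.Agent.CycPushLib.Local

/-!
# Orders at points with principal maximal ideal
-/

set_option autoImplicit false
set_option backward.isDefEq.respectTransparency false
set_option backward.isDefEq.respectTransparency.types false
set_option linter.style.haveILetI false

universe u

open AlgebraicGeometry CategoryTheory IsLocalRing

noncomputable section

namespace CycHorizLib

variable {X : Scheme.{u}} [IsIntegral X] {x ξ : X} (hξ : ξ = genericPoint X) (h : ξ ⤳ x)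

include hξ in
theorem specMap_injective : Function.Injective (Cyc.specMap x ξ h) :=
  (RingHom.injective_iff_ker_eq_bot _).2 (CycPushLib.ker_specMap_generic hξ h)

include hξ in
theorem primeOf_eq_bot : (CycDivLib.primeOf h).asIdeal = ⊥ := by
  rw [← CycDivLib.ker_specMap, CycPushLib.ker_specMap_generic hξ h]

variable [IsNoetherianRing (X.presheaf.stalk x)]

include h in
theorem dimBetween_le_one {ϖ : X.presheaf.stalk x} (hm : maximalIdeal (X.presheaf.stalk x) = Ideal.span {ϖ}) :
    EquidimLib.dimBetween ξ x ≤ 1 := by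
  rw [← CycDivLib.dim_quotient h]
  refine (ringKrullDim_quotient_le _).trans ?_
  haveI : (maximalIdeal (X.presheaf.stalk x)).IsPrincipal := ⟨ϖ, hm⟩
  rw [← IsLocalRing.maximalIdeal_height_eq_ringKrullDim]
  exact_mod_cast Ideal.height_le_one_of_isPrincipal_of_mem_minimalPrimes (maximalIdeal (X.presheaf.stalk x))
    (maximalIdeal (X.presheaf.stalk x)) ⟨⟨inferInstance, le_rfl⟩, fun _ h _ => h.2⟩

include hξ in
theorem ord_unit (hd : EquidimLib.dimBetween ξ x ≤ 1) {u : X.presheaf.stalk x} (hu : IsUnit u) :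
    Cyc.ordAt x ξ h (Cyc.specMap x ξ h u) = 0 := by
  rw [CycDivLib.ordAt_specMap h hd (hu.map _).ne_zero, primeOf_eq_bot hξ, bot_sup_eq]
  haveI : Subsingleton (X.presheaf.stalk x ⧸ Ideal.span {u}) :=
    Ideal.Quotient.subsingleton_iff.2 (Ideal.span_singleton_eq_top.2 hu)
  rw [Module.length_eq_zero]
  rfl

include hξ in
theorem ord_gen (hd : EquidimLib.dimBetween ξ x ≤ 1) {ϖ : X.presheaf.stalk x}
    (hm : maximalIdeal (X.presheaf.stalk x) = Ideal.span {ϖ}) (hne : ϖ ≠ 0) :
    Cyc.ordAt x ξ h (Cyc.specMap x ξ h ϖ) = 1 := by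
  rw [CycDivLib.ordAt_specMap h hd fun e => hne (specMap_injective hξ h (e.trans (map_zero _).symm)),
    primeOf_eq_bot hξ, bot_sup_eq, ← hm]
  haveI : IsSimpleModule (X.presheaf.stalk x) (X.presheaf.stalk x ⧸ maximalIdeal (X.presheaf.stalk x)) := by
    rw [isSimpleModule_iff_isCoatom, ← Ideal.isMaximal_def]
    exact maximalIdeal.isMaximal _
  rw [Module.length_eq_one]
  rfl

include hξ in
theorem ord_pow_mul (hd : EquidimLib.dimBetween ξ x ≤ 1) {ϖ : X.presheaf.stalk x}
    (hm : maximalIdeal (X.presheaf.stalk x) = Ideal.span {ϖ}) (hne : ϖ ≠ 0) (n : ℕ)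
    {u : X.presheaf.stalk x} (hu : IsUnit u) :
    Cyc.ordAt x ξ h (Cyc.specMap x ξ h (ϖ ^ n * u)) = n := by
  have hi := specMap_injective hξ h
  have hϖ : Cyc.specMap x ξ h ϖ ≠ 0 := fun e => hne (hi (e.trans (map_zero _).symm))
  induction n with
  | zero => simpa using ord_unit hξ h hd hu
  | succ n ih =>
    have h2 : Cyc.specMap x ξ h (ϖ ^ n * u) ≠ 0 := by
      rw [map_mul, map_pow]; exact mul_ne_zero (pow_ne_zero _ hϖ) (hu.map _).ne_zero
    rw [pow_succ', mul_assoc, map_mul, CycDivLib.ordAt_mul h hd hϖ h2, ord_gen hξ h hd hm hne, ih]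
    push_cast
    ring

omit [IsIntegral X] in
theorem ordAt_zpow (hd : EquidimLib.dimBetween ξ x ≤ 1) {y : X.residueField ξ} (hy : y ≠ 0) (n : ℤ) :
    Cyc.ordAt x ξ h (y ^ n) = n * Cyc.ordAt x ξ h y := by
  have h1 : Cyc.ordAt x ξ h (1 : X.residueField ξ) = 0 := by
    have := CycDivLib.ordAt_mul h hd (one_ne_zero (α := X.residueField ξ)) one_ne_zero
    rw [mul_one] at this
    omega
  have hp : ∀ m : ℕ, Cyc.ordAt x ξ h (y ^ m) = m * Cyc.ordAt x ξ h y := fun m => by
    induction m with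
    | zero => simpa using h1
    | succ m ih =>
      rw [pow_succ, CycDivLib.ordAt_mul h hd (pow_ne_zero _ hy) hy, ih]
      push_cast
      ring
  obtain ⟨m, rfl | rfl⟩ := Int.eq_nat_or_neg n
  · rw [zpow_natCast]; exact hp m
  · rw [zpow_neg, zpow_natCast, inv_eq_one_div,
      CycDivLib.ordAt_div h hd one_ne_zero (pow_ne_zero _ hy), h1, hp]
    ring

end CycHorizLib

end
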