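import Mathlib
import Groth.Prelude.Def_Cyc
import Groth.Agent.CycHorizLib.Ord
import Groth.Agent.CurveAmpLib.Affine
import Groth.Agent.GenusZeroLib.Point
import Groth.Agent.HurwitzLib.SmoothCurve

/-!
# Functions with consecutive pole orders at one point of a curve
-/

set_option autoImplicit false
set_option backward.isDefEq.respectTransparency false
set_option backward.isDefEq.respectTransparency.types false
set_option linter.style.haveILetI false
set_option linter.unusedSectionVars false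
set_option maxHeartbeats 800000

universe u

open AlgebraicGeometry CategoryTheory CategoryTheory.Limits IsLocalRing Opposite

noncomputable section

namespace CycHorizLib

variable {X : Scheme.{u}}

/-- Functions in all local rings are global. -/
theorem exists_global [IsIntegral X] {η : X} (hη : η = genericPoint X) (a : X.residueField η)
    (h : ∀ x : X, ∃ hx : η ⤳ x, a ∈ Set.range (Cyc.specMap x η hx)) :
    ∃ s : Γ(X, ⊤), X.evaluation ⊤ η trivial s = a := by
  have hloc : ∀ x : X, ∃ (U : X.Opens) (_ : x ∈ U) (hU : η ∈ U) (s : Γ(X, U)), X.evaluation U η hU s = a := by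
    intro x
    obtain ⟨hx, b, hb⟩ := h x
    obtain ⟨U, hxU, s, rfl⟩ := TopCat.Presheaf.germ_exist X.presheaf b
    exact ⟨U, hxU, hx.mem_open U.isOpen hxU, s, (CycPushLib.specMap_germ hx hxU _ s).symm.trans hb⟩
  choose U hxU hU s hs using hloc
  have hres : ∀ {V W : X.Opens} (i : V ⟶ W) (hV : η ∈ V) (t : Γ(X, W)),
      X.evaluation V η hV (X.presheaf.map i.op t) = X.evaluation W η (i.le hV) t := fun i hV t =>
    congrArg (X.residue η) (TopCat.Presheaf.germ_res_apply X.presheaf i η hV t)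
  obtain ⟨gl, hgl, -⟩ := X.sheaf.existsUnique_gluing' U ⊤ (fun _ => homOfLE le_top)
    (fun x _ => TopologicalSpace.Opens.mem_iSup.2 ⟨x, hxU x⟩) s fun i j => by
      apply CycPushLib.evaluation_injective hη (U i ⊓ U j) ⟨hU i, hU j⟩
      exact (hres _ _ _).trans ((hs i).trans ((hs j).symm.trans (hres _ _ _).symm))
  obtain ⟨x⟩ : Nonempty X := ⟨η⟩
  refine ⟨gl, ?_⟩
  refine Eq.trans ?_ (hs x)
  rw [← hgl x]
  exact (hres _ _ _).symm

theorem exists_eval_div {η : X} {U : X.Opens} (hU : IsAffineOpen U) (hηU : η ∈ U) (z : X.residueField η) :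
    ∃ a b : Γ(X, U), X.evaluation U η hηU b ≠ 0 ∧ z = X.evaluation U η hηU a / X.evaluation U η hηU b := by
  obtain ⟨φ, rfl⟩ := X.residue_surjective η z
  letI := X.presheaf.algebra_section_stalk (⟨η, hηU⟩ : U)
  haveI : IsLocalization.AtPrime (X.presheaf.stalk η) (hU.primeIdealOf ⟨η, hηU⟩).asIdeal :=
    hU.isLocalization_stalk ⟨η, hηU⟩
  obtain ⟨a, s, rfl⟩ := IsLocalization.exists_mk'_eq (hU.primeIdealOf ⟨η, hηU⟩).asIdeal.primeCompl φ
  have hs : X.residue η (algebraMap Γ(X, U) (X.presheaf.stalk η) s) ≠ 0 := fun h0 =>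
    (IsLocalRing.mem_maximalIdeal _).1 ((IsLocalRing.residue_eq_zero_iff _).1 h0)
      (IsLocalization.map_units _ s)
  refine ⟨a, s, hs, ?_⟩
  show X.residue η _ = X.residue η (algebraMap _ _ a) / X.residue η (algebraMap _ _ (s : Γ(X, U)))
  rw [eq_div_iff hs, ← map_mul, IsLocalization.mk'_spec]

variable {k : Type u} [Field k] {f : X ⟶ Spec (CommRingCat.of k)}

theorem isDVR [IsIntegral X] [IsProper f] [Smooth f] (hdim : topologicalKrullDim X = 1) {q : X}
    (hq : IsClosed ({q} : Set X)) : IsDiscreteValuationRing (X.presheaf.stalk q) := by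
  letI : X.Over (Spec (CommRingCat.of k)) := ⟨f⟩
  haveI : IsProper (X ↘ Spec (CommRingCat.of k)) := ‹IsProper f›
  haveI : Smooth (X ↘ Spec (CommRingCat.of k)) := ‹Smooth f›
  exact GenusZeroLib.isDiscreteValuationRing_stalk k hdim hq ((HurwitzLib.isNormalScheme_of_smooth (k := k)) q).2

/-- Values of the order at a discrete valuation ring. -/
theorem exists_form [IsIntegral X] {x η : X} (hη : η = genericPoint X) (h : η ⤳ x)
    [IsDiscreteValuationRing (X.presheaf.stalk x)] {z : X.residueField η} (hz : z ≠ 0) :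
    (0 ≤ Cyc.ordAt x η h z ∧ ∃ a, Cyc.specMap x η h a = z) ∨
      (Cyc.ordAt x η h z < 0 ∧ ∃ b ∈ maximalIdeal (X.presheaf.stalk x), z * Cyc.specMap x η h b = 1) := by
  obtain ⟨ϖ, hϖ⟩ := IsDiscreteValuationRing.exists_irreducible (X.presheaf.stalk x)
  have hm := hϖ.maximalIdeal_eq
  have hd := dimBetween_le_one h hm
  obtain ⟨a, b, hb, rfl⟩ := CycDivLib.exists_div h z
  have ha : Cyc.specMap x η h a ≠ 0 := fun e => hz (by rw [e, zero_div])
  have hi := specMap_injective hη h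
  obtain ⟨i, u, rfl⟩ := IsDiscreteValuationRing.eq_unit_mul_pow_irreducible
    (fun e => ha (by rw [e, map_zero]) : a ≠ 0) hϖ
  obtain ⟨j, v, rfl⟩ := IsDiscreteValuationRing.eq_unit_mul_pow_irreducible
    (fun e => hb (by rw [e, map_zero]) : b ≠ 0) hϖ
  rw [CycDivLib.ordAt_div h hd ha hb, mul_comm (u : X.presheaf.stalk x), mul_comm (v : X.presheaf.stalk x),
    ord_pow_mul hη h hd hm hϖ.ne_zero i u.isUnit, ord_pow_mul hη h hd hm hϖ.ne_zero j v.isUnit]
  rw [mul_comm (u : X.presheaf.stalk x)] at ha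
  rw [mul_comm (v : X.presheaf.stalk x)] at hb
  rcases le_or_gt j i with hij | hij
  · obtain ⟨d, rfl⟩ := Nat.exists_eq_add_of_le hij
    refine Or.inl ⟨by omega, ϖ ^ d * u * ↑v⁻¹, ?_⟩
    rw [eq_div_iff hb, ← map_mul]
    congr 1
    linear_combination (ϖ ^ (j + d) * (u : X.presheaf.stalk x)) * v.inv_mul
  · obtain ⟨d, rfl⟩ : ∃ d, j = i + 1 + d := ⟨j - i - 1, by omega⟩
    refine Or.inr ⟨by omega, ϖ ^ (d + 1) * v * ↑u⁻¹, ?_, ?_⟩
    · rw [hm, Ideal.mem_span_singleton, pow_succ', mul_assoc, mul_assoc]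
      exact dvd_mul_right _ _
    · rw [div_mul_eq_mul_div, div_eq_one_iff_eq hb, ← map_mul]
      congr 1
      linear_combination (ϖ ^ (i + 1 + d) * (v : X.presheaf.stalk x)) * u.inv_mul

/-- Two functions regular away from a point with consecutive negative orders there. -/
theorem exists_pair [IsIntegral X] [IsProper f] [Smooth f] (hdim : topologicalKrullDim X = 1) {η : X}
    (hη : η = genericPoint X) {q : X} (hq : IsClosed ({q} : Set X)) (hηq : η ⤳ q) :
    ∃ d₁ d₂ : X.residueField η, Cyc.ordAt q η hηq d₁ < 0 ∧ Cyc.ordAt q η hηq d₂ < 0 ∧ d₁ ≠ 0 ∧ d₂ ≠ 0 ∧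
      Cyc.ordAt q η hηq d₁ - Cyc.ordAt q η hηq d₂ = 1 ∧
      ∀ (x : X) (hx : η ⤳ x), x ≠ q → d₁ ∈ Set.range (Cyc.specMap x η hx) ∧ d₂ ∈ Set.range (Cyc.specMap x η hx) := by
  haveI := isDVR (f := f) hdim hq
  letI : X.Over (Spec (CommRingCat.of k)) := ⟨f⟩
  haveI : IsProper (X ↘ Spec (CommRingCat.of k)) := ‹IsProper f›
  obtain ⟨ϖ, hϖ⟩ := IsDiscreteValuationRing.exists_irreducible (X.presheaf.stalk q)
  have hm := hϖ.maximalIdeal_eq
  have hd := dimBetween_le_one hηq hm
  have hi := specMap_injective hη hηq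
  have hne : η ≠ q := fun e => GenusZeroLib.ne_genericPoint_of_isClosed hdim hq (e.symm.trans hη)
  let U : X.Opens := ⟨({q} : Set X)ᶜ, hq.isOpen_compl⟩
  have hηU : η ∈ U := hne
  have hU : IsAffineOpen U := by
    refine CurveAmpLib.isAffineOpen_of_finite_compl k hdim.le U (by simp [U]) (fun ζ hζ => ?_) fun C hC _ => ?_
    · have : genericPoint X = ζ := hζ _ (genericPoint_specializes ζ)
      rw [← this, ← hη]; exact hne
    · rw [irreducibleComponents_eq_singleton, Set.mem_singleton_iff] at hC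
      exact ⟨q, hC ▸ trivial, fun h => h rfl⟩
  have hev : ∀ (g : Γ(X, U)) (x : X) (hx : η ⤳ x) (hxq : x ≠ q),
      X.evaluation U η hηU g ∈ Set.range (Cyc.specMap x η hx) := fun g x hx hxq =>
    ⟨X.presheaf.germ U x hxq g, CycPushLib.specMap_germ hx _ _ g⟩
  obtain ⟨a₁, a₂, h₂, hπ⟩ := exists_eval_div hU hηU (Cyc.specMap q η hηq ϖ)
  have h₁ : X.evaluation U η hηU a₁ ≠ 0 := fun e => by
    rw [e, zero_div] at hπ
    exact hϖ.ne_zero (hi (hπ.trans (map_zero _).symm))
  have hπ1 : Cyc.ordAt q η hηq (X.evaluation U η hηU a₁) - Cyc.ordAt q η hηq (X.evaluation U η hηU a₂) = 1 := by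
    rw [← CycDivLib.ordAt_div hηq hd h₁ h₂, ← hπ, ord_gen hη hηq hd hm hϖ.ne_zero]
  obtain ⟨g, hg, hgneg⟩ : ∃ g : Γ(X, U), X.evaluation U η hηU g ≠ 0 ∧
      Cyc.ordAt q η hηq (X.evaluation U η hηU g) < 0 := by
    by_contra hc
    push Not at hc
    have hzero : ∀ g : Γ(X, U), X.evaluation U η hηU g ≠ 0 → Cyc.ordAt q η hηq (X.evaluation U η hηU g) = 0 := by
      intro g hg
      obtain ⟨-, a, ha⟩ | ⟨hlt, -⟩ := exists_form hη hηq hg
      swap
      · exact absurd hlt (not_lt.2 (hc g hg))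
      obtain ⟨s, hs⟩ := exists_global hη (X.evaluation U η hηU g) fun x => by
        refine ⟨hη ▸ genericPoint_specializes x, ?_⟩
        by_cases hxq : x = q
        · subst hxq; exact ⟨a, ha⟩
        · exact hev g x _ hxq
      have hs0 : s ≠ 0 := fun e => hg (by rw [← hs, e, map_zero])
      obtain ⟨t, ht⟩ := (isField_of_universallyClosed k f).mul_inv_cancel hs0
      have hu : IsUnit (X.presheaf.germ ⊤ q trivial s) := (IsUnit.of_mul_eq_one t ht).map _
      rw [← hs, ← CycPushLib.specMap_germ hηq (U := ⊤) trivial trivial s, ord_unit hη hηq hd hu]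
    rw [hzero a₁ h₁, hzero a₂ h₂] at hπ1
    omega
  set e := X.evaluation U η hηU with he
  let M : ℕ := (Cyc.ordAt q η hηq (e a₁)).natAbs + (Cyc.ordAt q η hηq (e a₂)).natAbs + 1
  have hp : ∀ a : Γ(X, U), e a ≠ 0 →
      e (g ^ M * a) ≠ 0 ∧
        Cyc.ordAt q η hηq (e (g ^ M * a)) = M * Cyc.ordAt q η hηq (e g) + Cyc.ordAt q η hηq (e a) := fun a ha => by
    rw [map_mul, map_pow]
    refine ⟨mul_ne_zero (pow_ne_zero _ hg) ha, ?_⟩
    rw [CycDivLib.ordAt_mul hηq hd (pow_ne_zero _ hg) ha, ← zpow_natCast, ordAt_zpow hηq hd hg]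
  obtain ⟨n₁, e₁⟩ := hp a₁ h₁
  obtain ⟨n₂, e₂⟩ := hp a₂ h₂
  have hMg : (M : ℤ) * Cyc.ordAt q η hηq (e g) ≤ -(M : ℤ) := by
    have : Cyc.ordAt q η hηq (e g) ≤ -1 := by omega
    nlinarith [Int.natCast_nonneg M]
  refine ⟨e (g ^ M * a₁), e (g ^ M * a₂), ?_, ?_, n₁, n₂, ?_, fun x hx hxq => ⟨hev _ x hx hxq, hev _ x hx hxq⟩⟩
  · rw [e₁]; omega
  · rw [e₂]; omega
  · rw [e₁, e₂]; omega

end CycHorizLib

end
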