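import Mathlib
import Groth.Prelude.Def_Cyc
import Groth.Agent.CycAffLib.Fibre
import Groth.Agent.ConeRetrLib.Fibre
import Groth.Agent.AlgSpLib.ReducedSmooth
import Groth.Agent.CycHorizLib.Ord

/-!
# The affine line over a variety
-/

set_option autoImplicit false
set_option backward.isDefEq.respectTransparency false
set_option backward.isDefEq.respectTransparency.types false
set_option linter.style.haveILetI false
set_option linter.unusedSectionVars false
set_option maxHeartbeats 800000

universe u

open AlgebraicGeometry CategoryTheory CategoryTheory.Limits IsLocalRing Polynomial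

noncomputable section

namespace CycHorizLib

variable {k : Type u} [Field k] {X P : Scheme.{u}} {f : X ⟶ Spec (CommRingCat.of k)}
  {p₁ : P ⟶ X} {p₂ : P ⟶ Spec (CommRingCat.of (Polynomial k))}
  (hP : IsPullback p₁ p₂ f (Spec.map (CommRingCat.ofHom (Polynomial.C : k →+* Polynomial k))))

variable (f) in
/-- The scalars in a residue field. -/
def scal (q : X) : k →+* X.residueField q := (Spec.preimage (X.fromSpecResidueField q ≫ f)).hom

variable (f) in
theorem specMap_scal (q : X) :
    Spec.map (CommRingCat.ofHom (scal f q)) = X.fromSpecResidueField q ≫ f :=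
  Spec.map_preimage _

theorem evaluation_top (z : P) :
    P.evaluation ⊤ z trivial ≫ (Scheme.ΓSpecIso (P.residueField z)).inv = (P.fromSpecResidueField z).appTop := by
  have e : (homOfLE (le_top : (⊤ : (Spec (P.presheaf.stalk z)).Opens) ≤ ⊤)) = 𝟙 _ := Subsingleton.elim _ _
  rw [Scheme.fromSpecResidueField, Scheme.Hom.comp_appTop, Scheme.fromSpecStalk_appTop, e, op_id,
    CategoryTheory.Functor.map_id, Category.comp_id, Category.assoc, ← Scheme.ΓSpecIso_inv_naturality]
  rfl

include hP in
theorem exists_fibre (q : X) :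
    ∃ (j : Spec (CommRingCat.of (Polynomial (X.residueField q))) ⟶ P)
      (s : Spec (CommRingCat.of (Polynomial (X.residueField q))) ⟶ Spec (X.residueField q)),
      IsPullback j s p₁ (X.fromSpecResidueField q) := by
  have big := isPullback_SpecMap_of_isPushout _ _ _ _ (ConeRetrLib.isPushout_polynomial (scal f q))
  rw [specMap_scal] at big
  let s := Spec.map (CommRingCat.ofHom (Polynomial.C : X.residueField q →+* Polynomial (X.residueField q)))
  let j := hP.lift (s ≫ X.fromSpecResidueField q)
    (Spec.map (CommRingCat.ofHom (Polynomial.mapRingHom (scal f q))))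
    (by rw [Category.assoc]; exact big.w.symm)
  have h1 : j ≫ p₁ = s ≫ X.fromSpecResidueField q := hP.lift_fst _ _ _
  have h2 : j ≫ p₂ = Spec.map (CommRingCat.ofHom (Polynomial.mapRingHom (scal f q))) := hP.lift_snd _ _ _
  refine ⟨j, s, IsPullback.of_right (h₁₂ := p₂) (h₂₂ := f) ?_ h1 hP.flip⟩
  rw [h2]
  exact big

include hP in
theorem smooth_fst : Smooth p₁ := by
  haveI : Smooth (Spec.map (CommRingCat.ofHom (Polynomial.C : k →+* Polynomial k))) := by
    rw [HasRingHomProperty.Spec_iff (P := @Smooth)]
    show RingHom.Smooth (algebraMap k (Polynomial k))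
    rw [RingHom.smooth_algebraMap]
    haveI : Algebra.FormallySmooth k (Polynomial k) := inferInstance
    exact ⟨inferInstance, inferInstance⟩
  exact MorphismProperty.of_isPullback hP.flip (inferInstance : Smooth (Spec.map _))

include hP in
theorem isIntegral_total [IsIntegral X] : IsIntegral P := by
  haveI := smooth_fst hP
  haveI : IsReduced P := AlgSpLib.isReduced_of_smooth p₁
  have hfib : ∀ y : X, IsPreirreducible (p₁ ⁻¹' {y}) := fun y => by
    obtain ⟨j, s, h⟩ := exists_fibre hP y
    rw [← CycAffLib.range_of_isPullback h, ← Set.image_univ]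
    exact (PreirreducibleSpace.isPreirreducible_univ (X := ↥(Spec (CommRingCat.of (Polynomial (X.residueField y)))))).image _
      j.continuous.continuousOn
  haveI : Nonempty P := by
    obtain ⟨j, s, h⟩ := exists_fibre hP (genericPoint X)
    exact ⟨j (genericPoint _)⟩
  haveI : IrreducibleSpace P := by
    haveI : PreirreducibleSpace P := ⟨by
      have := (PreirreducibleSpace.isPreirreducible_univ (X := X)).preimage_of_isPreirreducible_fiber p₁
        p₁.isOpenMap hfib
      rwa [Set.preimage_univ] at this⟩
    exact { toNonempty := inferInstance }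
  exact isIntegral_of_irreducibleSpace_of_isReduced P

include hP in
theorem fst_generic [IsIntegral X] [IsIntegral P] : p₁ (genericPoint P) = genericPoint X := by
  obtain ⟨j, s, h⟩ := exists_fibre hP (genericPoint X)
  have h1 : p₁ (j (genericPoint _)) = genericPoint X := (CycAffLib.range_of_isPullback h).le ⟨_, rfl⟩
  have h2 := (genericPoint_specializes (j (genericPoint _))).map p₁.continuous
  rw [h1] at h2
  exact (h2.antisymm (genericPoint_specializes _)).eq

include hP in
theorem isGen_of_not_closed {z : P} (hq : IsClosed ({p₁ z} : Set X)) (hz : ¬ IsClosed ({z} : Set P)) :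
    CycLimLib.IsGen p₁ z ∧ AlgebraicGeometry.IsIntegral (p₁.fiber (p₁ z)) := by
  obtain ⟨j, s, h⟩ := exists_fibre hP (p₁ z)
  haveI := CycAffLib.isPreimmersion_of_isPullback h
  refine ⟨fun y hy hyz => ?_, CycAffLib.isIntegral_fiber h⟩
  obtain ⟨w, hw0⟩ := (CycAffLib.range_of_isPullback h).ge (show z ∈ p₁ ⁻¹' {p₁ z} from rfl)
  obtain ⟨v, hv0⟩ := (CycAffLib.range_of_isPullback h).ge (show y ∈ p₁ ⁻¹' {p₁ z} from hy)
  have hyz' : j v ⤳ j w := (specializes_of_eq hv0).trans (hyz.trans (specializes_of_eq hw0.symm))
  have hvw : v ⤳ w := j.isEmbedding.isInducing.specializes_iff.1 hyz'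
  refine hv0.symm.trans ((congrArg (fun x => j x) (hvw.antisymm ?_).eq).trans hw0)
  suffices hw : w.asIdeal = ⊥ by
    rw [← PrimeSpectrum.le_iff_specializes]
    show w.asIdeal ≤ v.asIdeal
    rw [hw]; exact bot_le
  by_contra hw
  refine hz ?_
  have hmax : w.asIdeal.IsMaximal := w.isPrime.isMaximal hw
  have hclF : IsClosed ({w} : Set (Spec (CommRingCat.of (Polynomial (X.residueField (p₁ z)))))) :=
    (PrimeSpectrum.isClosed_singleton_iff_isMaximal w).2 hmax
  have hclj : IsClosed (Set.range j) := by
    rw [CycAffLib.range_of_isPullback h]; exact hq.preimage p₁.continuous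
  have := (Topology.IsClosedEmbedding.mk j.isEmbedding hclj).isClosedMap _ hclF
  rwa [Set.image_singleton, hw0] at this

include hP in
theorem maximalIdeal_eq {z : P} (hq : IsClosed ({p₁ z} : Set X)) (hz : ¬ IsClosed ({z} : Set P))
    {ϖ : X.presheaf.stalk (p₁ z)} (hm : maximalIdeal (X.presheaf.stalk (p₁ z)) = Ideal.span {ϖ}) :
    maximalIdeal (P.presheaf.stalk z) = Ideal.span {p₁.stalkMap z ϖ} := by
  obtain ⟨hg, hint⟩ := isGen_of_not_closed hP hq hz
  have h1 := CycAffLib.length_eq_one_of_integral p₁ hint hg
  rw [Module.length_eq_one_iff, isSimpleModule_iff_isCoatom, ← Ideal.isMaximal_def] at h1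
  rw [← IsLocalRing.eq_maximalIdeal h1, CycLimLib.fibIdeal, hm, Ideal.map_span, Set.image_singleton]

include hP in
theorem isUnit_add {z : P} (hq : IsClosed ({p₁ z} : Set X)) (hz : ¬ IsClosed ({z} : Set P))
    (a : X.presheaf.stalk (p₁ z)) :
    IsUnit (P.presheaf.germ ⊤ z trivial (p₂.appTop ((Scheme.ΓSpecIso _).inv (Polynomial.X : Polynomial k))) +
      p₁.stalkMap z a) := by
  by_contra hu
  let ā : X.residueField (p₁ z) := X.residue (p₁ z) a
  let ev : Polynomial k →+* X.residueField (p₁ z) := Polynomial.eval₂RingHom (scal f (p₁ z)) (-ā)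
  have hev : ev.comp Polynomial.C = scal f (p₁ z) := RingHom.ext fun c => Polynomial.eval₂_C _ _
  let σ := hP.lift (X.fromSpecResidueField (p₁ z)) (Spec.map (CommRingCat.ofHom ev))
    (by rw [← Spec.map_comp, ← CommRingCat.ofHom_comp, hev, specMap_scal])
  have hσ1 : σ ≫ p₁ = X.fromSpecResidueField (p₁ z) := hP.lift_fst _ _ _
  have hσ2 : σ ≫ p₂ = Spec.map (CommRingCat.ofHom ev) := hP.lift_snd _ _ _
  let ρ := p₁.residueFieldMap z
  let φ : CommRingCat.of (Polynomial k) ⟶ P.residueField z := Spec.preimage (P.fromSpecResidueField z ≫ p₂)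
  have hφ : Spec.map φ = P.fromSpecResidueField z ≫ p₂ := Spec.map_preimage _
  have key : P.fromSpecResidueField z = Spec.map ρ ≫ σ := by
    apply hP.hom_ext
    · rw [Category.assoc, hσ1]
      exact (Scheme.Hom.SpecMap_residueFieldMap_fromSpecResidueField p₁ z).symm
    · rw [Category.assoc, hσ2, ← Spec.map_comp, ← hφ]
      congr 1
      refine CommRingCat.hom_ext (Polynomial.ringHom_ext (fun c => ?_) ?_)
      · have e : CommRingCat.ofHom (Polynomial.C : k →+* Polynomial k) ≫ φ = CommRingCat.ofHom (scal f (p₁ z)) ≫ ρ := by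
          apply Spec.map_injective
          rw [Spec.map_comp, Spec.map_comp, hφ, specMap_scal, ← Category.assoc,
            Scheme.Hom.SpecMap_residueFieldMap_fromSpecResidueField, Category.assoc, Category.assoc, hP.w]
        refine (RingHom.congr_fun (congrArg CommRingCat.Hom.hom e) c).trans ?_
        exact congrArg ρ.hom (Polynomial.eval₂_C _ _).symm
      · have e1 : φ = (Scheme.ΓSpecIso _).inv ≫ p₂.appTop ≫ P.evaluation ⊤ z trivial := by
          have hev' := evaluation_top (P := P) z
          rw [← cancel_mono (Scheme.ΓSpecIso (P.residueField z)).inv, Category.assoc, Category.assoc, hev',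
            ← Scheme.Hom.comp_appTop, ← hφ, Scheme.ΓSpecIso_inv_naturality]
        show φ.hom Polynomial.X = ρ.hom (ev Polynomial.X)
        rw [show ev Polynomial.X = -ā from Polynomial.eval₂_X _ _, map_neg, e1]
        have h0 := (IsLocalRing.residue_eq_zero_iff _).2 ((IsLocalRing.mem_maximalIdeal _).2 hu)
        rw [map_add] at h0
        refine eq_neg_of_add_eq_zero_left ?_
        refine Eq.trans ?_ h0
        congr 1
  haveI : IsClosedImmersion (σ ≫ p₁) := by
    rw [hσ1]
    exact IsClosedImmersion.of_isPreimmersion _ (by rw [Scheme.range_fromSpecResidueField]; exact hq)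
  haveI : IsSeparated p₁ := MorphismProperty.of_isPullback hP.flip (inferInstance : IsSeparated (Spec.map (CommRingCat.ofHom (Polynomial.C : k →+* Polynomial k))))
  haveI : IsClosedImmersion σ := IsClosedImmersion.of_comp σ p₁
  refine hz ?_
  convert σ.isClosedEmbedding.isClosed_range using 1
  have h1 := congrArg (fun g : Spec (P.residueField z) ⟶ P => g (IsLocalRing.closedPoint (P.residueField z))) key
  simp only [Scheme.fromSpecResidueField_apply, Scheme.Hom.comp_base, TopCat.comp_app] at h1
  refine Set.Subset.antisymm (fun y hy => ?_) (fun y hy => ?_)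
  · rw [Set.mem_singleton_iff.1 hy]; exact ⟨_, h1.symm⟩
  · obtain ⟨w, rfl⟩ := hy
    exact (congrArg (fun v => σ v) (Subsingleton.elim (α := PrimeSpectrum (X.residueField (p₁ z))) w _)).trans h1.symm

end CycHorizLib

end
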