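import Mathlib
import Groth.Agent.CycDivLib.Ord
import Groth.Agent.CycHorizLib.Ord

/-!
# Points of curves
-/

set_option autoImplicit false
set_option backward.isDefEq.respectTransparency false
set_option linter.style.haveILetI false

universe u

open AlgebraicGeometry CategoryTheory TopologicalSpace

noncomputable section

namespace CycHorizLib

variable {X : Scheme.{u}} [IsIntegral X]

theorem isClosed_of_ne (hdim : topologicalKrullDim X ≤ 1) {c : X} (hc : c ≠ genericPoint X) :
    IsClosed ({c} : Set X) := by
  refine closure_eq_iff_isClosed.1 (Set.Subset.antisymm (fun c' hc' => ?_) subset_closure)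
  by_contra hne
  let mk : X → IrreducibleCloseds X := fun x => ⟨closure {x}, isIrreducible_singleton.closure, isClosed_closure⟩
  have hlt : ∀ a b : X, b ⤳ a → a ≠ b → mk a < mk b := fun a b hba hab => by
    refine lt_of_le_of_ne (closure_minimal (Set.singleton_subset_iff.2 hba.mem_closure) isClosed_closure) fun e => hab ?_
    have e' : closure ({a} : Set X) = closure {b} := congrArg (fun Z : IrreducibleCloseds X => (Z : Set X)) e
    exact ((specializes_iff_closure_subset.2 e'.ge).antisymm hba).eq
  let s : LTSeries (IrreducibleCloseds X) := ((RelSeries.singleton _ (mk c')).snoc (mk c)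
    (hlt c' c (specializes_iff_mem_closure.2 hc') hne)).snoc (mk (genericPoint X))
    (by rw [RelSeries.last_snoc]; exact hlt c _ (genericPoint_specializes c) hc)
  have h2 := (Order.LTSeries.length_le_krullDim s).trans hdim
  simp [s, RelSeries.snoc, RelSeries.append, RelSeries.singleton] at h2

theorem immediate {ξ z v : X} (hξ : ξ = genericPoint X) (hd : EquidimLib.dimBetween ξ z ≤ 1) (h : ξ ⤳ z)
    (hvz : v ⤳ z) : v = ξ ∨ v = z := by
  have h0 := primeOf_eq_bot hξ h
  have hdim : ringKrullDim (X.presheaf.stalk z ⧸ (CycDivLib.primeOf h).asIdeal) ≤ 1 :=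
    (CycDivLib.dim_quotient h).le.trans hd
  haveI : Ring.KrullDimLE 1 (X.presheaf.stalk z) := by
    rw [Ring.krullDimLE_iff]
    rw [h0, ringKrullDim_eq_of_ringEquiv (RingEquiv.quotientBot _)] at hdim
    exact hdim
  by_cases hb : (CycDivLib.primeOf hvz).asIdeal = ⊥
  · left
    rw [← CycDivLib.stalkPt_primeOf hvz, ← CycDivLib.stalkPt_primeOf h]
    exact congrArg (EquidimLib.stalkPt z) (PrimeSpectrum.ext (hb.trans h0.symm))
  · right
    have hmax := IsLocalRing.eq_maximalIdeal
      (Ring.krullDimLE_one_iff_of_noZeroDivisors.mp inferInstance (CycDivLib.primeOf hvz).asIdeal hb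
        (CycDivLib.primeOf hvz).isPrime)
    rw [← CycDivLib.stalkPt_primeOf hvz,
      show CycDivLib.primeOf hvz = IsLocalRing.closedPoint (X.presheaf.stalk z) from PrimeSpectrum.ext hmax]
    exact Scheme.fromSpecStalk_closedPoint

end CycHorizLib

end
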